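import Groth.Agent.AlgSpCohColimLib.Nerve
import Groth.Agent.CdOneLib.ColimH
import Groth.Agent.FiltExtLib.Basic

/-!
# Cohomology of quasi-compact quasi-separated spaces commutes with filtered colimits
-/

set_option autoImplicit false
set_option linter.unusedSectionVars false
set_option linter.style.haveILetI false
set_option backward.isDefEq.respectTransparency false
set_option backward.isDefEq.respectTransparency.types false
set_option maxHeartbeats 400000
set_option synthInstance.maxHeartbeats 100000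

universe u

open CategoryTheory CategoryTheory.Limits CategoryTheory.Abelian AlgebraicGeometry Opposite AlgSp
open Groth.Agent Groth.Agent.EtShLib

noncomputable section

namespace AlgSpCohColim

variable {S : Scheme.{u}} {X : Sp S}

/-- An object is the top of its own chart. -/
def topIso (E : EtOver X) :
    (EtOver.ofChart E.obj.hom E.property).obj (EtCoh.top E.obj.left.left) ≅ E :=
  (ObjectProperty.fullyFaithfulι _).preimageIso
    (CostructuredArrow.isoMk (Over.isoMk (Iso.refl E.obj.left.left) (by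
      change 𝟙 _ ≫ E.obj.left.hom = 𝟙 _ ≫ E.obj.left.hom
      rfl)) (by
      change (yon S).map _ ≫ E.obj.hom = (yon S).map _ ≫ E.obj.hom
      rfl))

section Sections

variable {Λ : Type (u + 1)} [SmallCategory Λ] [IsFiltered Λ] {D : Λ ⥤ AbEt X} {c : Cocone D} (hc : IsColimit c)

include hc in
theorem exists_stage_lift (E : EtOver X) (hE : Qcqs E) (t : c.pt.obj.obj (op E)) :
    ∃ (i : Λ) (s : (D.obj i).obj.obj (op E)), (c.ι.app i).hom.app (op E) s = t := by
  let R := ModEtQc.resP' E.obj.hom E.property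
  haveI := ModEtQc.ofChart_cocontinuous E.obj.hom E.property
  haveI : R.IsLeftAdjoint :=
    ((EtOver.ofChart E.obj.hom E.property).sheafAdjunctionCocontinuous AddCommGrpCat.{u + 1} _ (etTop X)).isLeftAdjoint
  haveI : CompactSpace (EtCoh.top E.obj.left.left).left := hE.1
  haveI : QuasiSeparatedSpace (EtCoh.top E.obj.left.left).left := hE.2
  let e := topIso E
  obtain ⟨i, s, hs⟩ := CdOneLib.exists_stage_lift (isColimitOfPreserves R hc) (EtCoh.top E.obj.left.left)
    (c.pt.obj.map e.hom.op t)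
  refine ⟨i, (D.obj i).obj.map e.inv.op s, (NatTrans.naturality_apply (c.ι.app i).hom e.inv.op s).trans ?_⟩
  refine (congrArg (c.pt.obj.map e.inv.op) hs).trans ?_
  rw [← ConcreteCategory.comp_apply, ← Functor.map_comp, ← op_comp, e.inv_hom_id, op_id, CategoryTheory.Functor.map_id]
  rfl

include hc in
theorem exists_stage_zero (E : EtOver X) (hE : CompactSpace E.obj.left.left) {i : Λ} (s : (D.obj i).obj.obj (op E))
    (h : (c.ι.app i).hom.app (op E) s = 0) : ∃ (k : Λ) (a : i ⟶ k), (D.map a).hom.app (op E) s = 0 := by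
  let R := ModEtQc.resP' E.obj.hom E.property
  haveI := ModEtQc.ofChart_cocontinuous E.obj.hom E.property
  haveI : R.IsLeftAdjoint :=
    ((EtOver.ofChart E.obj.hom E.property).sheafAdjunctionCocontinuous AddCommGrpCat.{u + 1} _ (etTop X)).isLeftAdjoint
  haveI : CompactSpace (EtCoh.top E.obj.left.left).left := hE
  let e := topIso E
  obtain ⟨k, a, ha⟩ := CdOneLib.exists_stage_zero (isColimitOfPreserves R hc) (EtCoh.top E.obj.left.left)
    ((D.obj i).obj.map e.hom.op s) ((NatTrans.naturality_apply (c.ι.app i).hom e.hom.op s).trans (by rw [h, map_zero]))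
  refine ⟨k, a, ?_⟩
  have h2 : (D.obj k).obj.map e.hom.op ((D.map a).hom.app (op E) s) = 0 :=
    (NatTrans.naturality_apply (D.map a).hom e.hom.op s).symm.trans ha
  have h3 := congrArg ((D.obj k).obj.map e.inv.op) h2
  rwa [map_zero, ← ConcreteCategory.comp_apply, ← Functor.map_comp, ← op_comp, e.inv_hom_id, op_id,
    CategoryTheory.Functor.map_id, ConcreteCategory.id_apply] at h3

end Sections

section QAcyc

/-- Čech acyclicity on the quasi-compact quasi-separated objects over every chart. -/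
def QAcyclic (F : AbEt X) : Prop :=
  ∀ (U : Over S) (p : (yon S).obj U ⟶ X) (hp : RepWith @Etale p), CechAcyclicQ ((ModEtQc.resP' p hp).obj F)

theorem qAcyclic_injective (I : AbEt X) [Injective I] : QAcyclic I := fun _ p hp _ _ π _ _ _ n =>
  ModEtQc.hExact_comp_of_injective (EtOver.ofChart p hp) I π n

theorem surjective_sections_qcqs {T : ShortComplex (AbEt X)} (hT : T.ShortExact) (h : QAcyclic T.X₁)
    {E : EtOver X} (hE : Qcqs E) : Function.Surjective (T.g.hom.app (op E)) := by
  haveI : (ModEtQc.resP' E.obj.hom E.property).Additive := { }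
  have hs := surjective_sections (ModEtQc.shortExact_resP' E.obj.hom E.property hT) (h _ E.obj.hom E.property)
    (W := EtCoh.top E.obj.left.left) hE
  let e := topIso E
  intro s
  obtain ⟨t, ht⟩ := hs (T.X₃.obj.map e.hom.op s)
  refine ⟨T.X₂.obj.map e.inv.op t, ?_⟩
  rw [NatTrans.naturality_apply]
  refine (congrArg (T.X₃.obj.map e.inv.op) ht).trans ?_
  rw [← ConcreteCategory.comp_apply, ← Functor.map_comp, ← op_comp, e.inv_hom_id, op_id, CategoryTheory.Functor.map_id]
  rfl

theorem qAcyclic_quotient {T : ShortComplex (AbEt X)} (hT : T.ShortExact) [Injective T.X₂]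
    (h : QAcyclic T.X₁) : QAcyclic T.X₃ := fun U p hp W' W π hW' hW hπ n => by
  haveI : (ModEtQc.resP' p hp).Additive := { }
  have hS := ModEtQc.shortExact_resP' p hp hT
  exact EpsLib.hExact_quotient hS (EpsLib.nerveOf π)
    (surjective_sections hS (h U p hp) (pow_mem_qcqsObj π hW' hW (n + 1)))
    (h U p hp W' W π hW' hW hπ (n + 1)) (ModEtQc.hExact_comp_of_injective (EtOver.ofChart p hp) T.X₂ π n)

theorem qAcyclic_colimit {Λ : Type (u + 1)} [SmallCategory Λ] [IsFiltered Λ] {D : Λ ⥤ AbEt X} {c : Cocone D}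
    (hc : IsColimit c) (h : ∀ j, QAcyclic (D.obj j)) : QAcyclic c.pt := fun U p hp => by
  let R := ModEtQc.resP' p hp
  haveI := ModEtQc.ofChart_cocontinuous p hp
  haveI : R.IsLeftAdjoint :=
    ((EtOver.ofChart p hp).sheafAdjunctionCocontinuous AddCommGrpCat.{u + 1} _ (etTop X)).isLeftAdjoint
  exact CdOneLib.cechAcyclicQ_colimit (isColimitOfPreserves R hc) fun j => h j U p hp

end QAcyc

section Global

variable {U : Over S} (p : (yon S).obj U ⟶ X) (hp : RepWith @Etale p) (hs : RepWith @Surjective p)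
  (hX : IsAlgSpace X) (hqs : IsQuasiSeparatedSp X) [QuasiSeparatedSpace ↥S] [IsAffine U.left]

/-- Exactness of the Čech complex of the atlas. -/
def GExact (F : AbEt X) : Prop := ∀ n, EpsLib.HExact (nerve p hp) (ext0 F.obj) n

theorem gExact_injective (I : AbEt X) [Injective I] : GExact p hp I := fun n =>
  haveI : Injective I.obj := Injective.injective_of_adjoint (sheafificationAdjunction (etTop X) AddCommGrpCat.{u + 1}) I
  hExact_ext0_injective I.obj (nerve p hp) (fun m => ⟨pw p hp m, rfl⟩) n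

include hX hqs in
theorem gExact_colimit {Λ : Type (u + 1)} [SmallCategory Λ] [IsFiltered Λ] {D : Λ ⥤ AbEt X} {c : Cocone D}
    (hc : IsColimit c) (h : ∀ j, GExact p hp (D.obj j)) : GExact p hp c.pt := fun n x hx => by
  obtain ⟨i, s, rfl⟩ := exists_stage_lift hc (pw p hp (n + 1)) (qcqs_pw p hp hX hqs _) x
  obtain ⟨k, a, ha⟩ := exists_stage_zero hc (pw p hp (n + 1 + 1)) (qcqs_pw p hp hX hqs _).1
    (EpsLib.cechD (nerve p hp) (ext0 (D.obj i).obj) (n + 1) s)
    ((EpsLib.cechD_natural (nerve p hp) (ext0Map (c.ι.app i).hom) (n + 1) s).trans hx)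
  obtain ⟨y, hy⟩ := h k n ((D.map a).hom.app (op (pw p hp (n + 1))) s)
    ((EpsLib.cechD_natural (nerve p hp) (ext0Map (D.map a).hom) (n + 1) s).symm.trans ha)
  refine ⟨(c.ι.app k).hom.app (op (pw p hp n)) y, ?_⟩
  refine (EpsLib.cechD_natural (nerve p hp) (ext0Map (c.ι.app k).hom) n y).symm.trans ?_
  refine (congrArg ((c.ι.app k).hom.app (op (pw p hp (n + 1)))) hy).trans ?_
  exact congrArg (fun w : D.obj i ⟶ c.pt => w.hom.app (op (pw p hp (n + 1))) s) (c.w a)

include hX hqs in
theorem gExact_quotient {T : ShortComplex (AbEt X)} (hT : T.ShortExact) [Injective T.X₂]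
    (hQ : QAcyclic T.X₁) (h : GExact p hp T.X₁) : GExact p hp T.X₃ := fun n x hx => by
  let N := nerve p hp
  let φ := ext0Map T.f.hom
  let ψ := ext0Map T.g.hom
  obtain ⟨x', hx'⟩ := surjective_sections_qcqs hT hQ (qcqs_pw p hp hX hqs (n + 1)) x
  have hx2 : ψ.app (op (N.obj (n + 1 + 1))) (EpsLib.cechD N (ext0 T.X₂.obj) (n + 1) x') = 0 := by
    rw [EpsLib.cechD_natural]
    exact (congrArg (EpsLib.cechD N (ext0 T.X₃.obj) (n + 1)) hx').trans hx
  obtain ⟨w, hw⟩ := (EpsLib.sections_exact hT (pw p hp (n + 1 + 1))).2 _ hx2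
  obtain ⟨v, hv⟩ := h (n + 1) w ((EpsLib.sections_exact hT (pw p hp (n + 1 + 1 + 1))).1 (by
    refine ((EpsLib.cechD_natural N φ (n + 1 + 1) w).trans ?_).trans (map_zero _).symm
    exact (congrArg (EpsLib.cechD N (ext0 T.X₂.obj) (n + 1 + 1)) hw).trans (EpsLib.cechD_cechD _ _ _ _)))
  obtain ⟨y, hy⟩ := gExact_injective p hp T.X₂ n ((show (ext0 T.X₂.obj).obj (op (N.obj (n + 1))) from x') - φ.app (op (N.obj (n + 1))) v) (by
    rw [map_sub, ← EpsLib.cechD_natural, hv]
    exact sub_eq_zero.2 hw.symm)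
  refine ⟨ψ.app (op (N.obj n)) y, ?_⟩
  rw [← EpsLib.cechD_natural, hy, map_sub]
  have h0 : ψ.app (op (N.obj (n + 1))) (φ.app (op (N.obj (n + 1))) v) = 0 :=
    congrArg (fun k : T.X₁ ⟶ T.X₃ => k.hom.app (op (pw p hp (n + 1))) v) T.zero
  rw [h0, sub_zero]
  exact hx'

include hp hs in
theorem fam_ext {F : AbEt X} {x y : ModEtQc.Fam F} (h : x.1 (e0 p hp) = y.1 (e0 p hp)) : x = y := by
  refine Subtype.ext (funext fun E => ?_)
  refine EpsLib.sheaf_sect_ext F _ (ofArrows_mem_etTop (fun _ : PUnit.{u + 1} => prd p hp E) (fun _ => prdπ p hp E)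
    fun e => ⟨⟨⟩, surjective_prdπ p hp hs E e⟩) _ _ ?_
  rintro T _ ⟨_, a, _, ⟨-⟩, rfl⟩
  rw [x.2 (a ≫ prdπ p hp E), y.2 (a ≫ prdπ p hp E), ← x.2 (a ≫ prdk p hp E), ← y.2 (a ≫ prdk p hp E), h]

include hp hs in
theorem exists_fam {F : AbEt X} (s : F.obj.obj (op (e0 p hp)))
    (h : F.obj.map (prdπ p hp (e0 p hp)).op s = F.obj.map (prdk p hp (e0 p hp)).op s) :
    ∃ x : ModEtQc.Fam F, x.1 (e0 p hp) = s := by
  have key : ∀ {T : EtOver X} (c c' : T ⟶ e0 p hp), F.obj.map c.op s = F.obj.map c'.op s := fun c c' => by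
    rw [← prdLift_π p hp c c']
    conv_rhs => rw [← prdLift_k p hp c c']
    simp only [op_comp, Functor.map_comp, ConcreteCategory.comp_apply]
    rw [h]
  have hE : ∀ E, ∃ z : F.obj.obj (op E), ∀ (T : EtOver X) (g : T ⟶ E) (c : T ⟶ e0 p hp),
      F.obj.map g.op z = F.obj.map c.op s := fun E => by
    have hc := ofArrows_mem_etTop (fun _ : PUnit.{u + 1} => prd p hp E) (fun _ => prdπ p hp E)
      fun e => ⟨⟨⟩, surjective_prdπ p hp hs E e⟩
    obtain ⟨z, hz⟩ := EpsLib.sheaf_glue_single F _ hc (F.obj.map (prdk p hp E).op s) fun Q a b _ => by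
      rw [← ConcreteCategory.comp_apply, ← ConcreteCategory.comp_apply, ← Functor.map_comp, ← Functor.map_comp,
        ← op_comp, ← op_comp]
      exact key _ _
    refine ⟨z, fun T g c => EpsLib.sheaf_sect_ext F _ ((etTop X).pullback_stable g hc) _ _ fun Q a ha => ?_⟩
    obtain ⟨_, b, _, ⟨-⟩, hb⟩ := ha
    rw [← ConcreteCategory.comp_apply, ← ConcreteCategory.comp_apply, ← Functor.map_comp, ← Functor.map_comp,
      ← op_comp, ← op_comp, ← hb, op_comp, Functor.map_comp, ConcreteCategory.comp_apply, hz,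
      ← ConcreteCategory.comp_apply, ← Functor.map_comp, ← op_comp]
    exact key _ _
  choose z hz using hE
  refine ⟨⟨z, fun {E E'} g => ?_⟩, ?_⟩
  · refine EpsLib.sheaf_sect_ext F _ (ofArrows_mem_etTop (fun _ : PUnit.{u + 1} => prd p hp E') (fun _ => prdπ p hp E')
      fun e => ⟨⟨⟩, surjective_prdπ p hp hs E' e⟩) _ _ ?_
    rintro T _ ⟨_, a, _, ⟨-⟩, rfl⟩
    rw [← ConcreteCategory.comp_apply, ← Functor.map_comp, ← op_comp,
      hz E T ((a ≫ prdπ p hp E') ≫ g) (a ≫ prdk p hp E'), hz E' T (a ≫ prdπ p hp E') (a ≫ prdk p hp E')]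
  · have := hz (e0 p hp) _ (𝟙 _) (𝟙 _)
    simp only [op_id, CategoryTheory.Functor.map_id, ConcreteCategory.id_apply] at this
    exact this

theorem cechD_zero_eq {F : AbEt X} (s : F.obj.obj (op (e0 p hp))) :
    EpsLib.cechD (nerve p hp) (ext0 F.obj) 0 s =
      F.obj.map (prdπ p hp (e0 p hp)).op s - F.obj.map (prdk p hp (e0 p hp)).op s := by
  rw [EpsLib.cechD_apply, Fin.sum_univ_two, nerve_face_zero_zero, nerve_face_zero_one]
  simp only [Fin.val_zero, pow_zero, one_smul, Fin.val_one, pow_one, neg_smul]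
  exact (sub_eq_add_neg _ _).symm

/-- The constant sheaf corepresenting cohomology. -/
abbrev constX (X : Sp S) : AbEt X :=
  (constantSheaf (etTop X) AddCommGrpCat.{u + 1}).obj (AddCommGrpCat.of (ULift.{u + 1} ℤ))

/-- Maps out of the constant sheaf as families. -/
def homFam (F : AbEt X) : (constX X ⟶ F) ≃+ ModEtQc.Fam F :=
  (Ext.addEquiv₀ (X := constX X) (Y := F)).symm.trans (ModEtQc.famEquiv F)

theorem homFam_comp {F G : AbEt X} (s : constX X ⟶ F) (g : F ⟶ G) (E : EtOver X) :
    (homFam G (s ≫ g)).1 E = g.hom.app (op E) ((homFam F s).1 E) := by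
  have h : Sheaf.H.map g 0 (Ext.mk₀ s) = Ext.mk₀ (s ≫ g) := by rw [Sheaf.H.map_apply, Ext.mk₀_comp_mk₀]
  exact (congrArg (fun t => (ModEtQc.famEquiv G t).1 E) h.symm).trans (ModEtQc.famEquiv_nat g (Ext.mk₀ s) E)

include hp hs hX hqs in
set_option maxHeartbeats 1600000 in
theorem exists_lift_global {T : ShortComplex (AbEt X)} (hT : T.ShortExact) (hQ : QAcyclic T.X₁) (hG : GExact p hp T.X₁)
    (s : constX X ⟶ T.X₃) : ∃ t : constX X ⟶ T.X₂, t ≫ T.g = s := by
  let N := nerve p hp
  let x := homFam _ s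
  obtain ⟨s₀, hs₀⟩ := surjective_sections_qcqs hT hQ (E := e0 p hp) (qcqs_pw p hp hX hqs 0) (x.1 (e0 p hp))
  have h1 : (ext0Map T.g.hom).app (op (N.obj 1)) (EpsLib.cechD N (ext0 T.X₂.obj) 0 s₀) = 0 := by
    rw [EpsLib.cechD_natural]
    refine (congrArg (EpsLib.cechD N (ext0 T.X₃.obj) 0) hs₀).trans ((cechD_zero_eq p hp _).trans ?_)
    rw [x.2, x.2, sub_self]
  obtain ⟨y, hy⟩ := (EpsLib.sections_exact hT (pw p hp 1)).2 _ h1
  obtain ⟨v, hv⟩ := hG 0 y ((EpsLib.sections_exact hT (pw p hp 2)).1 (by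
    refine ((EpsLib.cechD_natural N (ext0Map T.f.hom) 1 y).trans ?_).trans (map_zero _).symm
    exact (congrArg (EpsLib.cechD N (ext0 T.X₂.obj) 1) hy).trans (EpsLib.cechD_cechD _ _ _ _)))
  let s₁ : T.X₂.obj.obj (op (e0 p hp)) := s₀ - T.f.hom.app (op (e0 p hp)) v
  have h2 : EpsLib.cechD N (ext0 T.X₂.obj) 0 s₁ = 0 := by
    refine (map_sub (EpsLib.cechD N (ext0 T.X₂.obj) 0) s₀ _).trans (sub_eq_zero.2 ?_)
    refine Eq.trans ?_ (EpsLib.cechD_natural N (ext0Map T.f.hom) 0 v)
    rw [hv]
    exact hy.symm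
  obtain ⟨z, hz⟩ := exists_fam p hp hs s₁ (sub_eq_zero.1 ((cechD_zero_eq p hp s₁).symm.trans h2))
  refine ⟨(homFam _).symm z, (homFam _).injective (fam_ext p hp hs ?_)⟩
  rw [homFam_comp, AddEquiv.apply_symm_apply, hz, map_sub, hs₀]
  have h0 : T.g.hom.app (op (e0 p hp)) (T.f.hom.app (op (e0 p hp)) v) = 0 :=
    congrArg (fun k : T.X₁ ⟶ T.X₃ => k.hom.app (op (e0 p hp)) v) T.zero
  rw [h0, sub_zero]

include hp hs hX hqs in
theorem subsingleton_ext_succ : ∀ (q : ℕ) (G : AbEt X), QAcyclic G → GExact p hp G →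
    Subsingleton (Ext.{u + 1} (constX X) G (q + 1))
  | 0, G, hQ, hG => by
    haveI : Injective (CohLib.injSC G).X₂ := inferInstanceAs (Injective (Injective.under G))
    haveI := CohLib.subsingleton_ext_injective.{u + 1} (constX X) (CohLib.injSC G).X₂ 0
    exact CohLib.subsingleton_ext_one_of_lift (CohLib.injSC_shortExact G)
      (exists_lift_global p hp hs hX hqs (CohLib.injSC_shortExact G) hQ hG)
  | q + 1, G, hQ, hG => by
    haveI : Injective (CohLib.injSC G).X₂ := inferInstanceAs (Injective (Injective.under G))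
    haveI := CohLib.subsingleton_ext_injective.{u + 1} (constX X) (CohLib.injSC G).X₂ (q + 1)
    haveI := subsingleton_ext_succ q _ (qAcyclic_quotient (CohLib.injSC_shortExact G) hQ)
      (gExact_quotient p hp hX hqs (CohLib.injSC_shortExact G) hQ hG)
    exact CohLib.subsingleton_ext_of_shift (CohLib.injSC_shortExact G)

include hp hs hX hqs in
set_option maxHeartbeats 1600000 in
theorem preservesColimits_HEtF (n : ℕ) (Λ : Type (u + 1)) [SmallCategory Λ] [IsFiltered Λ] :
    PreservesColimitsOfShape Λ (HEtF X n) := by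
  have hcomm : FiltExtLib.ExtComm (constX X) Λ n := by
    refine FiltExtLib.extComm_of_acyclic ?_ ?_ ?_ n
    · intro D t
      let x := homFam _ t
      obtain ⟨i, s, hi⟩ := exists_stage_lift (colimit.isColimit D) (e0 p hp) (qcqs_pw p hp hX hqs 0) (x.1 (e0 p hp))
      have hd : (colimit.ι D i).hom.app (op (prd p hp (e0 p hp)))
          ((D.obj i).obj.map (prdπ p hp (e0 p hp)).op s - (D.obj i).obj.map (prdk p hp (e0 p hp)).op s) = 0 := by
        rw [map_sub, NatTrans.naturality_apply, NatTrans.naturality_apply]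
        refine (congrArg₂ (· - ·) (congrArg _ hi) (congrArg _ hi)).trans ?_
        rw [x.2, x.2, sub_self]
      obtain ⟨k, a, ha⟩ := exists_stage_zero (colimit.isColimit D) (prd p hp (e0 p hp))
        (qcqs_pw p hp hX hqs 1).1 _ hd
      rw [map_sub, sub_eq_zero, NatTrans.naturality_apply, NatTrans.naturality_apply] at ha
      obtain ⟨z, hz⟩ := exists_fam p hp hs ((D.map a).hom.app (op (e0 p hp)) s) ha
      refine ⟨k, (homFam _).symm z, (homFam _).injective (fam_ext p hp hs ?_)⟩
      rw [homFam_comp, AddEquiv.apply_symm_apply, hz]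
      exact (congrArg (fun w : D.obj i ⟶ colimit D => w.hom.app (op (e0 p hp)) s) (colimit.w D a)).trans hi
    · intro D i s h
      let x := homFam _ s
      obtain ⟨k, a, ha⟩ := exists_stage_zero (colimit.isColimit D) (e0 p hp) (qcqs_pw p hp hX hqs 0).1
        (x.1 (e0 p hp)) ((homFam_comp s (colimit.ι D i) (e0 p hp)).symm.trans (by rw [h, map_zero]; rfl))
      refine ⟨k, a, (homFam _).injective (fam_ext p hp hs ?_)⟩
      rw [homFam_comp, map_zero]
      exact ha
    · intro q I hI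
      exact subsingleton_ext_succ p hp hs hX hqs q _
        (qAcyclic_colimit (colimit.isColimit I) fun j => @qAcyclic_injective _ _ (I.obj j) (hI j))
        (gExact_colimit p hp hX hqs (colimit.isColimit I) fun j => haveI := hI j; gExact_injective p hp (I.obj j))
  haveI := FiltExtLib.preservesColimitsOfShape_ext hcomm
  let e : (Abelian.extFunctor.{u + 1} n).obj (op (constX X)) ≅ HEtF X n :=
    NatIso.ofComponents (fun F => Iso.refl _) fun _ => rfl
  exact preservesColimitsOfShape_of_natIso e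

end Global

end AlgSpCohColim
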