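import Groth.Agent.ModEtQcLib.PushH
import Groth.Agent.AlgSpLib.QcQs
import Groth.Agent.EpsLib.Cartan
import Mathlib.CategoryTheory.WithTerminal.Basic
import Mathlib.CategoryTheory.Functor.KanExtension.Adjunction
import Mathlib.AlgebraicGeometry.Morphisms.Separated

/-!
# The nerve of an atlas of a space
-/

set_option autoImplicit false
set_option linter.unusedSectionVars false
set_option linter.style.haveILetI false
set_option backward.isDefEq.respectTransparency false
set_option backward.isDefEq.respectTransparency.types false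
set_option maxHeartbeats 400000
set_option synthInstance.maxHeartbeats 100000

universe u

open CategoryTheory CategoryTheory.Limits AlgebraicGeometry Opposite AlgSp
open Groth.Agent

noncomputable section

namespace AlgSpCohColim

section Ext0

variable {C : Type (u + 1)} [Category.{u} C]

/-- The inclusion in the category with a terminal object added. -/
abbrev inc : C ⥤ WithTerminal C := WithTerminal.incl

/-- A presheaf extended by zero at the added object. -/
def ext0 (P : Cᵒᵖ ⥤ AddCommGrpCat.{u + 1}) : (WithTerminal C)ᵒᵖ ⥤ AddCommGrpCat.{u + 1} where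
  obj x := match x.unop with
    | .of a => P.obj (op a)
    | .star => AddCommGrpCat.of PUnit.{u + 2}
  map {x y} g := match x, y, g.unop with
    | ⟨.of _⟩, ⟨.of _⟩, h => P.map (WithTerminal.down h).op
    | ⟨.star⟩, ⟨.of _⟩, _ => 0
    | ⟨.of _⟩, ⟨.star⟩, h => h.elim
    | ⟨.star⟩, ⟨.star⟩, _ => 0
  map_id := by
    rintro ⟨_ | _⟩
    · exact P.map_id _
    · ext
  map_comp := by
    rintro ⟨_ | _⟩ ⟨_ | _⟩ ⟨_ | _⟩ g h
    · exact P.map_comp _ _
    · exact h.unop.elim
    · exact g.unop.elim
    · exact g.unop.elim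
    · ext x
      exact (map_zero _).symm
    · exact h.unop.elim
    · ext x
      exact (map_zero _).symm
    · ext

/-- Extension by zero of a map. -/
def ext0Map {P Q : Cᵒᵖ ⥤ AddCommGrpCat.{u + 1}} (φ : P ⟶ Q) : ext0 P ⟶ ext0 Q where
  app x := match x with
    | ⟨.of a⟩ => φ.app (op a)
    | ⟨.star⟩ => 0
  naturality := by
    rintro ⟨_ | _⟩ ⟨_ | _⟩ g
    · exact φ.naturality _
    · exact g.unop.elim
    · ext x
      exact (map_zero _).trans (map_zero _).symm
    · ext x
      exact Subsingleton.elim (α := PUnit.{u + 2}) _ _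

/-- The comparison with the right Kan extension. -/
def ext0ToRan (P : Cᵒᵖ ⥤ AddCommGrpCat.{u + 1}) : ext0 P ⟶ (inc (C := C)).op.ran.obj P :=
  haveI : (inc (C := C)).op.Full := inferInstance
  haveI : IsIso ((inc (C := C)).op.ranCounit.app P) := inferInstance
  { app := fun x => match x with
      | ⟨.of a⟩ => (inv ((inc (C := C)).op.ranCounit.app P)).app (op a)
      | ⟨.star⟩ => 0
    naturality := by
      rintro ⟨a | _⟩ ⟨b | _⟩ g
      · exact (inv ((inc (C := C)).op.ranCounit.app P)).naturality (show op a ⟶ op b from (WithTerminal.down g.unop).op)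
      · exact g.unop.elim
      · ext x
        exact (map_zero _).trans (map_zero _).symm
      · ext x
        exact (map_zero _).trans (map_zero _).symm }

theorem hExact_of_bijective {D : Type (u + 1)} [Category.{u} D] {W' W : D} {π : W' ⟶ W} (N : EpsLib.Nerve π)
    {P Q : Dᵒᵖ ⥤ AddCommGrpCat.{u + 1}} (τ : P ⟶ Q) (hτ : ∀ m, Function.Bijective (τ.app (op (N.obj m))))
    {n : ℕ} (h : EpsLib.HExact N Q n) : EpsLib.HExact N P n := fun x hx => by
  obtain ⟨y, hy⟩ := h (τ.app _ x) (by rw [← EpsLib.cechD_natural, hx, map_zero])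
  obtain ⟨y', rfl⟩ := (hτ _).2 y
  exact ⟨y', (hτ _).1 (by rw [EpsLib.cechD_natural, hy])⟩

theorem hExact_ext0_injective (I : Cᵒᵖ ⥤ AddCommGrpCat.{u + 1}) [Injective I] {W' W : WithTerminal C}
    {π : W' ⟶ W} (N : EpsLib.Nerve π) (hN : ∀ m, ∃ a, N.obj m = WithTerminal.of a) (n : ℕ) :
    EpsLib.HExact N (ext0 I) n := by
  haveI : Injective ((inc (C := C)).op.ran.obj I) :=
    Injective.injective_of_adjoint ((inc (C := C)).op.ranAdjunction AddCommGrpCat.{u + 1}) I
  refine hExact_of_bijective N (ext0ToRan I) (fun m => ?_) (EpsLib.hExact_of_injective N _ n)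
  obtain ⟨a, ha⟩ := hN m
  rw [ha]
  haveI : (inc (C := C)).op.Full := inferInstance
  haveI : IsIso ((inc (C := C)).op.ranCounit.app I) := inferInstance
  exact ConcreteCategory.bijective_of_isIso ((inv ((inc (C := C)).op.ranCounit.app I)).app (op a))

end Ext0

section Atlas

variable {S : Scheme.{u}} {X : Sp S} {U : Over S} (p : (yon S).obj U ⟶ X) (hp : RepWith @Etale p)

/-- The atlas as an object of the site. -/
abbrev e0 : EtOver X := EtOver.mk p hp

/-- Product with the atlas in the small etale site. -/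
def prd (E : EtOver X) : EtOver X :=
  EtOver.mk ((yon S).map (hp.rep.snd E.obj.hom) ≫ E.obj.hom)
    ((repWith_isMultiplicative (S := S) @Etale).comp_mem _ _
      ((repWith_yon_map_iff _ _).2 (hp.property _ _ _ (hp.rep.isPullback E.obj.hom))) E.property)

/-- The first projection. -/
def prdπ (E : EtOver X) : prd p hp E ⟶ E := EtOver.homMk (hp.rep.snd E.obj.hom) rfl

/-- The projection to the atlas. -/
def prdk (E : EtOver X) : prd p hp E ⟶ e0 p hp :=
  EtOver.homMk ((yon S).preimage (hp.rep.fst E.obj.hom)) (by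
    rw [Functor.map_preimage]
    exact (hp.rep.isPullback E.obj.hom).w)

/-- The universal property. -/
def prdLift {T E : EtOver X} (a : T ⟶ E) (b : T ⟶ e0 p hp) : T ⟶ prd p hp E :=
  EtOver.homMk (hp.rep.lift ((yon S).map b.hom.left) a.hom.left ((EtOver.w b).trans (EtOver.w a).symm)) (by
    change (yon S).map _ ≫ (yon S).map _ ≫ E.obj.hom = T.obj.hom
    rw [← Category.assoc, ← Functor.map_comp, hp.rep.lift_snd]
    exact EtOver.w a)

theorem prdLift_π {T E : EtOver X} (a : T ⟶ E) (b : T ⟶ e0 p hp) : prdLift p hp a b ≫ prdπ p hp E = a :=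
  EtOver.hom_ext _ _ (hp.rep.lift_snd _ _ _)

theorem prdLift_k {T E : EtOver X} (a : T ⟶ E) (b : T ⟶ e0 p hp) : prdLift p hp a b ≫ prdk p hp E = b :=
  EtOver.hom_ext _ _ ((yon S).map_injective (by
    refine ((yon S).map_comp _ _).trans ?_
    refine (congrArg ((yon S).map _ ≫ ·) ((yon S).map_preimage _)).trans ?_
    exact hp.rep.lift_fst _ _ _))

theorem prd_ext {T E : EtOver X} {a b : T ⟶ prd p hp E} (h1 : a ≫ prdπ p hp E = b ≫ prdπ p hp E)
    (h2 : a ≫ prdk p hp E = b ≫ prdk p hp E) : a = b := by
  refine EtOver.hom_ext _ _ (hp.rep.hom_ext ?_ (congrArg (fun q => q.hom.left) h1))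
  have h := congrArg (fun q => (yon S).map q.hom.left) h2
  dsimp only at h
  simp only [prdk] at h
  exact ((congrArg ((yon S).map a.hom.left ≫ ·) ((yon S).map_preimage _)).symm.trans
    (((yon S).map_comp _ _).symm.trans (h.trans ((yon S).map_comp _ _)))).trans
      (congrArg ((yon S).map b.hom.left ≫ ·) ((yon S).map_preimage _))

/-- The powers of the atlas. -/
def pw : ℕ → EtOver X
  | 0 => e0 p hp
  | n + 1 => prd p hp (pw n)

/-- The projections. -/
def pwPr : ∀ n, Fin (n + 1) → (pw p hp n ⟶ e0 p hp)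
  | 0, _ => 𝟙 _
  | n + 1, k => Fin.cases (prdk p hp (pw p hp n)) (fun k => prdπ p hp (pw p hp n) ≫ pwPr n k) k

theorem exists_pwLift : ∀ (n : ℕ) {T : EtOver X} (t : Fin (n + 1) → (T ⟶ e0 p hp)),
    ∃ l : T ⟶ pw p hp n, ∀ k, l ≫ pwPr p hp n k = t k
  | 0, T, t => ⟨t 0, fun k => by obtain rfl : k = 0 := Fin.eq_zero k; exact Category.comp_id _⟩
  | n + 1, T, t => by
    obtain ⟨l, hl⟩ := exists_pwLift n fun k => t k.succ
    refine ⟨prdLift p hp l (t 0), fun k => ?_⟩
    induction k using Fin.cases with
    | zero => exact prdLift_k p hp _ _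
    | succ k =>
      show _ ≫ prdπ p hp _ ≫ pwPr p hp n k = _
      rw [← Category.assoc, prdLift_π, hl]

theorem pw_ext : ∀ (n : ℕ) {T : EtOver X} (a b : T ⟶ pw p hp n),
    (∀ k, a ≫ pwPr p hp n k = b ≫ pwPr p hp n k) → a = b
  | 0, T, a, b, h => (Category.comp_id a).symm.trans ((h 0).trans (Category.comp_id b))
  | n + 1, T, a, b, h => by
    refine prd_ext p hp (pw_ext n _ _ fun k => ?_) (h 0)
    rw [Category.assoc, Category.assoc]
    exact h k.succ

/-- The nerve of the atlas, over an added terminal object. -/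
def nerve : EpsLib.Nerve (WithTerminal.starTerminal.from ((inc (C := EtOver X)).obj (e0 p hp))) where
  obj n := (inc (C := EtOver X)).obj (pw p hp n)
  pr n k := (inc (C := EtOver X)).map (pwPr p hp n k)
  w n k := WithTerminal.starTerminal.hom_ext _ _
  lift n {T} t _ := match T, t with
    | .of _, t => (inc (C := EtOver X)).map (exists_pwLift p hp n fun k => WithTerminal.down (t k)).choose
    | .star, t => (t 0).elim
  fac n {T} t _ k := match T, t with
    | .of _, t => (exists_pwLift p hp n fun k => WithTerminal.down (t k)).choose_spec k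
    | .star, t => (t 0).elim
  ext n {T} a b h := match T, a, b, h with
    | .of _, a, b, h => pw_ext p hp n (WithTerminal.down a) (WithTerminal.down b) fun k => h k
    | .star, a, _, _ => a.elim

theorem nerve_face_zero_zero : (nerve p hp).face 0 0 = (inc (C := EtOver X)).map (prdπ p hp (e0 p hp)) :=
  (nerve p hp).ext 0 _ _ fun k => by
    obtain rfl : k = 0 := Fin.eq_zero k
    rw [EpsLib.Nerve.face_pr]
    rfl

theorem nerve_face_zero_one : (nerve p hp).face 0 1 = (inc (C := EtOver X)).map (prdk p hp (e0 p hp)) :=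
  (nerve p hp).ext 0 _ _ fun k => by
    obtain rfl : k = 0 := Fin.eq_zero k
    rw [EpsLib.Nerve.face_pr]
    exact (Category.comp_id _).symm

variable (hX : IsAlgSpace X) (hqs : IsQuasiSeparatedSp X) [QuasiSeparatedSpace ↥S] [IsAffine U.left]

/-- The quasi-compact quasi-separated objects. -/
def Qcqs (E : EtOver X) : Prop := CompactSpace E.obj.left.left ∧ QuasiSeparatedSpace E.obj.left.left

include hX hqs in
theorem quasiCompact_snd (E : EtOver X) : QuasiCompact (hp.rep.snd E.obj.hom).left :=
  (((AlgSpLib.repWith_quasiCompact_iff (IsAlgSpace.yon_obj U) hX hp.rep).2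
    (AlgSpLib.isQuasiCompactMor_of_qcSp_qsSp (IsAlgSpace.yon_obj U) hX p (AlgSpLib.isQuasiCompactSp_yon U) hqs))).property
      _ _ _ (hp.rep.isPullback E.obj.hom)

include hX hqs in
theorem qcqs_prd {E : EtOver X} (hE : Qcqs E) : Qcqs (prd p hp E) := by
  haveI := hE.1
  haveI := hE.2
  haveI := quasiCompact_snd p hp hX hqs E
  refine ⟨QuasiCompact.compactSpace_of_compactSpace (hp.rep.snd E.obj.hom).left, ?_⟩
  let m : (prd p hp E).obj.left ⟶ E.obj.left ⨯ U :=
    prod.lift (hp.rep.snd E.obj.hom) ((yon S).preimage (hp.rep.fst E.obj.hom))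
  haveI : Mono m := ⟨fun a b hab => by
    have h1 := congrArg (· ≫ prod.fst) hab
    have h2 := congrArg (· ≫ prod.snd) hab
    simp only [m, Category.assoc, prod.lift_fst, prod.lift_snd] at h1 h2
    refine hp.rep.hom_ext ?_ h1
    have h3 := congrArg (yon S).map h2
    rwa [Functor.map_comp, Functor.map_comp, Functor.map_preimage] at h3⟩
  haveI : Mono m.left := inferInstanceAs (Mono ((Over.forget S).map m))
  haveI : QuasiSeparatedSpace ↥(pullback E.obj.left.hom U.hom) :=
    quasiSeparatedSpace_of_quasiSeparated (pullback.fst E.obj.left.hom U.hom)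
  haveI : QuasiSeparatedSpace ↥(E.obj.left ⨯ U).left :=
    quasiSeparatedSpace_of_quasiSeparated (Over.prodLeftIsoPullback E.obj.left U).hom
  haveI : IsSeparated m.left := inferInstance
  exact quasiSeparatedSpace_of_quasiSeparated m.left

include hX hqs in
theorem qcqs_pw : ∀ n, Qcqs (pw p hp n)
  | 0 => ⟨inferInstanceAs (CompactSpace U.left), inferInstanceAs (QuasiSeparatedSpace U.left)⟩
  | n + 1 => qcqs_prd p hp hX hqs (qcqs_pw n)

theorem surjective_prdπ (hs : RepWith @Surjective p) (E : EtOver X) (e : E.obj.left.left) :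
    e ∈ Set.range (prdπ p hp E).hom.left.left :=
  haveI : Surjective (hp.rep.snd E.obj.hom).left := hs.property _ _ _ (hp.rep.isPullback E.obj.hom)
  (hp.rep.snd E.obj.hom).left.surjective e

end Atlas

end AlgSpCohColim
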